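import Groth.Agent.PicPn.Chart
import Groth.Agent.SymAlg.CanonImm
import Groth.Agent.GrT.TwistMul
import Groth.Agent.TMul.RelAmple
import Groth.Agent.W7Hull.InvNear
import Groth.Agent.Horrocks.Point

/-!
`Pic P^n = ℤ` over a field; invertible modules over a factorial base.
-/

set_option autoImplicit false
set_option backward.isDefEq.respectTransparency false
set_option linter.style.haveILetI false

universe u

open CategoryTheory CategoryTheory.Limits AlgebraicGeometry TopologicalSpace Opposite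
open Groth.Agent.QC (res resO res_res res_self res_smul resO_resO)
open TMul (IsGen)

noncomputable section

namespace Groth.Agent.PicPn

variable {k : Type u} [CommRing k] [IsDomain k] [UniqueFactorizationMonoid k] {n : ℕ}

theorem isIntegral : AlgebraicGeometry.IsIntegral (P n k) := by
  refine (Groth.Agent.S3557.result (CohB1.polyGrading n k) fun f _ h => h.eq_zero).mpr
    ⟨⟨MvPolynomial.X 0, HomogeneousIdeal.mem_irrelevant_of_mem _ one_pos (MvPolynomial.isHomogeneous_X k 0),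
      MvPolynomial.X_ne_zero 0⟩, fun f _ g _ h => mul_eq_zero.mp h⟩

theorem intOpen_top : UfdExtend.IntOpen (P n k) ⊤ := by
  haveI := isIntegral (k := k) (n := n)
  haveI : IsIntegral (⊤ : (P n k).Opens).toScheme :=
    @isIntegral_of_isOpenImmersion _ _ (⊤ : (P n k).Opens).ι inferInstance _
      ⟨⟨genericPoint (P n k), trivial⟩⟩
  exact UfdExtend.intOpen_of_isIntegral ⊤

theorem exists_mem_inter (i j : Fin (n + 1)) : ∃ w : P n k, w ∈ ch i ∧ w ∈ ch j := by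
  have hne : ∀ i, ∃ w : P n k, w ∈ ch i := fun i => by
    by_contra! h
    have h1 : Subsingleton Γ(P n k, ch i) := by
      rw [show ch (k := k) i = ⊥ from le_bot_iff.1 fun w hw => absurd hw (h w)]
      infer_instance
    obtain ⟨e, -⟩ := exists_chart (k := k) i
    exact zero_ne_one (α := MvPolynomial {j : Fin (n + 1) // j ≠ i} k) (e.symm.injective (h1.elim _ _))
  obtain ⟨v, hv⟩ := hne i
  obtain ⟨w, hw⟩ := hne j
  exact (intOpen_top (k := k)).inter le_top le_top hv hw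

theorem exists_gen_ch {M : (P n k).Modules} (hM : PicF.IsInvertible M) (i : Fin (n + 1)) :
    ∃ g : Γ(M, ch i), IsGen g := by
  haveI := isIntegral (k := k) (n := n)
  obtain ⟨w, hw, -⟩ := exists_mem_inter (k := k) i i
  let U : Scheme.{u} := (ch (k := k) i : Scheme.{u})
  haveI : Nonempty U := ⟨⟨w, hw⟩⟩
  haveI : IsIntegral U := isIntegral_of_isOpenImmersion (ch (k := k) i).ι
  haveI : Nonempty (⊤ : U.Opens).toScheme := ⟨⟨⟨w, hw⟩, trivial⟩⟩
  haveI : IsIntegral (⊤ : U.Opens).toScheme := isIntegral_of_isOpenImmersion (⊤ : U.Opens).ι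
  haveI := ufd_chart (k := k) i
  haveI : UniqueFactorizationMonoid Γ(U, ⊤) :=
    MulEquiv.uniqueFactorizationMonoid (ch (k := k) i).topIso.symm.commRingCatIsoToRingEquiv.toMulEquiv ‹_›
  have hM' : PicF.IsInvertible (M.restrict (ch (k := k) i).ι) := TMul.isInvertible_restrict _ hM
  have hF : UfdExtend.RankOne ⊤ (M.restrict (ch (k := k) i).ι) := ⟨fun V => by
    have h : ∀ W : U.Opens, W = V → ∀ hW : W ≤ V, Function.Bijective (res (M.restrict (ch (k := k) i).ι) hW) := by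
      rintro W rfl hW
      rw [show ⇑(res (M.restrict (ch (k := k) i).ι) hW) = id from funext fun x => res_self _ _ x]
      exact Function.bijective_id
    exact h _ (inf_top_eq V) _,
    fun x _ => by
      obtain ⟨A, a, hxA, ha⟩ := TMul.exists_isGen hM' x
      exact ⟨A, a, hxA, ha⟩⟩
  obtain ⟨e, he⟩ := UfdExtend.exists_gen_of_ufd hF
    (haveI : IsAffine U := isAffineOpen_ch (k := k) i; isAffineOpen_top U)
    (UfdExtend.intOpen_of_isIntegral ⊤) le_top (u₀ := ⟨w, hw⟩) trivial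
  have h1 := SymAlg.isGen_of_isGen_restrict (ch (k := k) i).ι e he
  exact ⟨_, h1.res (by rw [Scheme.Hom.image_top_eq_opensRange, Scheme.Opens.opensRange_ι])⟩

/-- The generator `x_i^a / x_i^b` of `O(a - b)`. -/
abbrev tgen (a b : ℕ) (i : Fin (n + 1)) : Γ(Twist.twist (CohB1.polyGrading n k) ((a : ℤ) - b), ch i) :=
  GrT.twistGen (CohB1.polyGrading n k) (p := MvPolynomial.X i ^ a) (q := MvPolynomial.X i ^ b)
    (GrT.pow_mem_one _ (X_mem i) a) (GrT.pow_mem_one _ (X_mem i) b) (N := (a : ℤ) - b) (by ring)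
    (fun y hy => (ProjectiveSpectrum.mem_basicOpen _ _ y).mpr
      (GrT.not_mem_pow _ (GrT.not_mem_of_mem _ (le_refl (ch (k := k) i)) ⟨y, hy⟩) b))

theorem isGen_tgen (a b : ℕ) (i : Fin (n + 1)) : IsGen (tgen (k := k) a b i) := fun V hV =>
  GrT.twistGen_bijective (CohB1.polyGrading n k) (GrT.pow_mem_one _ (X_mem i) a)
    (GrT.pow_mem_one _ (X_mem i) b) (by ring)
    (fun y hy => (ProjectiveSpectrum.mem_basicOpen _ _ y).mpr
      (GrT.not_mem_pow _ (GrT.not_mem_of_mem _ (le_refl (ch (k := k) i)) ⟨y, hy⟩) a)) _ V hV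

theorem tgen_rel (a b : ℕ) (i : Fin (n + 1)) {V : (P n k).Opens} (h0 : V ≤ ch 0) (hi : V ≤ ch i) :
    resO _ hi (z (k := k) i 0) ^ b • res _ h0 (tgen (k := k) a b 0) =
      resO _ hi (z (k := k) i 0) ^ a • res _ hi (tgen (k := k) a b i) := by
  refine GrT.pt_ext _ _ fun y => ?_
  have hy0 := GrT.not_mem_of_mem (CohB1.polyGrading n k) h0 y
  have hyi := GrT.not_mem_of_mem (CohB1.polyGrading n k) hi y
  have hz : ∀ m : ℕ, GrT.pO (CohB1.polyGrading n k) (resO _ hi (z (k := k) i 0) ^ m) y =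
      Localization.mk (MvPolynomial.X 0 ^ m) ⟨MvPolynomial.X i ^ m, GrT.not_mem_pow _ hyi m⟩ := fun m => by
    rw [← map_pow (resO (P n k) hi), ← map_pow (GrT.deh (CohB1.polyGrading n k) (X_mem (k := k) i))]
    exact GrT.pO_deh _ (X_mem i) (GrT.pow_mem_one _ (X_mem 0) m) hi y _
  show GrT.pO _ (resO _ hi (z (k := k) i 0) ^ b) y •
      GrT.fr (CohB1.polyGrading n k) y.1 ((MvPolynomial.X 0 : MvPolynomial (Fin (n + 1)) k) ^ a)
        ((MvPolynomial.X 0 : MvPolynomial (Fin (n + 1)) k) ^ b) (GrT.not_mem_pow _ hy0 b) =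
    GrT.pO _ (resO _ hi (z (k := k) i 0) ^ a) y •
      GrT.fr (CohB1.polyGrading n k) y.1 ((MvPolynomial.X i : MvPolynomial (Fin (n + 1)) k) ^ a)
        ((MvPolynomial.X i : MvPolynomial (Fin (n + 1)) k) ^ b) (GrT.not_mem_pow _ hyi b)
  rw [hz, hz, GrT.loc_smul_fr, GrT.loc_smul_fr]
  refine GrT.fr_congr _ y.1 _ _ ?_
  simp only [smul_eq_mul]
  ring

/-- `x_0 / x_i` on the overlap. -/
abbrev zr (i : Fin (n + 1)) : Γ(P n k, ch i ⊓ ch 0) :=
  resO (P n k) (inf_le_left : ch i ⊓ ch 0 ≤ ch i) (z (k := k) i 0)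

theorem exists_rel {M : (P n k).Modules} {g₀ : Γ(M, ch 0)} (hg₀ : IsGen g₀) {i : Fin (n + 1)} (hi : i ≠ 0)
    {g : Γ(M, ch i)} (hg : IsGen g) :
    ∃ (g' : Γ(M, ch i)) (p q : ℕ), IsGen g' ∧
      zr (k := k) i ^ p • res M (inf_le_right : ch i ⊓ ch 0 ≤ ch 0) g₀ =
        zr (k := k) i ^ q • res M (inf_le_left : ch i ⊓ ch 0 ≤ ch i) g' := by
  obtain ⟨u, hu⟩ := UfdExtend.isGen_self (X := P n k) hg (inf_le_left : ch i ⊓ ch 0 ≤ ch i)
    (res M (inf_le_right : ch i ⊓ ch 0 ≤ ch 0) g₀)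
  have hu' : IsUnit u := W7Hull.isUnit_coeff (hg.res (inf_le_left : ch i ⊓ ch 0 ≤ ch i))
    (by rw [hu]; exact hg₀.res _)
  obtain ⟨c, p, q, hc, he⟩ := exists_unit_eq i hi (ch_inf i 0) inf_le_left u hu'
  refine ⟨c • g, p, q, UfdExtend.isGen_unit_smul hg hc, ?_⟩
  rw [← hu, res_smul, ← mul_smul, ← mul_smul, he, mul_comm]

theorem cancel_unit {M : (P n k).Modules} {V : (P n k).Opens} {c : Γ(P n k, V)} (hc : IsUnit c)
    {s t : Γ(M, V)} (h : c • s = c • t) : s = t := by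
  obtain ⟨d, hd⟩ := hc.exists_left_inv
  rw [← one_smul Γ(P n k, V) s, ← one_smul Γ(P n k, V) t, ← hd, mul_smul, mul_smul, h]

theorem isUnit_z (i : Fin (n + 1)) {V : (P n k).Opens} (hi : V ≤ ch i) (h0 : V ≤ ch 0) :
    IsUnit (resO _ hi (z (k := k) i 0)) := by
  have := GrT.isUnit_deh_pow (CohB1.polyGrading n k) (X_mem i) (X_mem 0) 1 hi h0
  rwa [pow_one] at this

/-- The exponents agree. -/
theorem exp_eq {L : (P n k).Modules} {i l : Fin (n + 1)} (hi : i ≠ 0) (hl : l ≠ 0)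
    {eᵢ : Γ(L, ch i)} {eₗ : Γ(L, ch l)} (hgi : IsGen eᵢ) (hgl : IsGen eₗ) {e₀ : Γ(L, ch 0)} {p q : ℕ}
    (h₁ : zr (k := k) i ^ p • res L (inf_le_right : ch i ⊓ ch 0 ≤ ch 0) e₀ =
      zr (k := k) i ^ q • res L (inf_le_left : ch i ⊓ ch 0 ≤ ch i) eᵢ)
    (h₂ : res L (inf_le_right : ch l ⊓ ch 0 ≤ ch 0) e₀ = res L (inf_le_left : ch l ⊓ ch 0 ≤ ch l) eₗ) :
    p = q := by
  haveI := isIntegral (k := k) (n := n)
  obtain ⟨χ, hχ⟩ := exists_char (k := k) i l hi hl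
  obtain ⟨w, hw⟩ := UfdExtend.isGen_self (X := P n k) hgi (inf_le_left : (ch (k := k) i ⊓ ch l) ≤ ch i)
    (res L (inf_le_right : (ch (k := k) i ⊓ ch l) ≤ ch l) eₗ)
  have hwu : IsUnit w := W7Hull.isUnit_coeff (hgi.res (inf_le_left : (ch (k := k) i ⊓ ch l) ≤ ch i))
    (by rw [hw]; exact hgl.res _)
  have hWi : (ch (k := k) i ⊓ ch l ⊓ ch 0) ≤ ch i ⊓ ch 0 := inf_le_inf_right _ inf_le_left
  have hWl : (ch (k := k) i ⊓ ch l ⊓ ch 0) ≤ ch l ⊓ ch 0 := inf_le_inf_right _ inf_le_right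
  have e1 := congrArg (res L hWi) h₁
  have e2 := congrArg (res L hWl) h₂
  have e3 := congrArg (res L (inf_le_left : (ch (k := k) i ⊓ ch l ⊓ ch 0) ≤ (ch (k := k) i ⊓ ch l))) hw
  simp only [zr, res_smul, res_res, map_pow, resO_resO] at e1 e2 e3
  rw [e2, ← e3, ← mul_smul] at e1
  have e4 := (hgi (ch (k := k) i ⊓ ch l ⊓ ch 0) (inf_le_left.trans inf_le_left)).1 e1
  obtain ⟨v, hv, hv'⟩ := exists_mem_inter (k := k) i l
  obtain ⟨o, ho, ho'⟩ := exists_mem_inter (k := k) 0 0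
  obtain ⟨x, hx, hx'⟩ := (intOpen_top (k := k)).inter (V := ch (k := k) i ⊓ ch l) le_top le_top (⟨hv, hv'⟩ : v ∈ (ch (k := k) i ⊓ ch l)) ho
  have e5 : resO _ (inf_le_left : (ch (k := k) i ⊓ ch l) ≤ ch i) (z (k := k) i 0) ^ p * w = resO _ (inf_le_left : (ch (k := k) i ⊓ ch l) ≤ ch i) (z (k := k) i 0) ^ q := by
    refine (intOpen_top (k := k)).inj (inf_le_left : (ch (k := k) i ⊓ ch l ⊓ ch 0) ≤ (ch (k := k) i ⊓ ch l)) le_top (show x ∈ (ch (k := k) i ⊓ ch l ⊓ ch 0) from ⟨hx, hx'⟩) ?_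
    simp only [map_mul, map_pow, resO_resO]
    exact e4
  haveI := (intOpen_top (k := k)).dom (le_top : (ch (k := k) i ⊓ ch l) ≤ ⊤) (⟨hv, hv'⟩ : v ∈ (ch (k := k) i ⊓ ch l))
  have hz : resO _ (inf_le_left : (ch (k := k) i ⊓ ch l) ≤ ch i) (z (k := k) i 0) ≠ 0 := fun h0 => by
    have h1 : resO _ (inf_le_left.trans inf_le_left : (ch (k := k) i ⊓ ch l ⊓ ch 0) ≤ ch i) (z (k := k) i 0) = 0 := by
      rw [← resO_resO (inf_le_left : (ch (k := k) i ⊓ ch l ⊓ ch 0) ≤ (ch (k := k) i ⊓ ch l)) (inf_le_left : (ch (k := k) i ⊓ ch l) ≤ ch i), h0, map_zero]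
    haveI := (intOpen_top (k := k)).dom (le_top : (ch (k := k) i ⊓ ch l ⊓ ch 0) ≤ ⊤) (show x ∈ (ch (k := k) i ⊓ ch l ⊓ ch 0) from ⟨hx, hx'⟩)
    exact (isUnit_z i (inf_le_left.trans inf_le_left : (ch (k := k) i ⊓ ch l ⊓ ch 0) ≤ ch i) inf_le_right).ne_zero h1
  by_contra hne
  rcases Nat.lt_or_gt_of_ne hne with h | h
  · have e6 : w = resO _ (inf_le_left : (ch (k := k) i ⊓ ch l) ≤ ch i) (z (k := k) i 0) ^ (q - p) := by
      refine mul_left_cancel₀ (pow_ne_zero p hz) ?_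
      rw [← pow_add, show p + (q - p) = q by omega]
      exact e5
    have := (hwu.map χ).ne_zero
    rw [e6, map_pow, hχ, zero_pow (by omega)] at this
    exact this rfl
  · have e6 : resO _ (inf_le_left : (ch (k := k) i ⊓ ch l) ≤ ch i) (z (k := k) i 0) ^ (p - q) * w = 1 := by
      refine mul_left_cancel₀ (pow_ne_zero q hz) ?_
      rw [← mul_assoc, ← pow_add, show q + (p - q) = p by omega, mul_one]
      exact e5
    have := congrArg χ e6
    rw [map_mul, map_pow, hχ, zero_pow (by omega), zero_mul, map_one] at this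
    exact zero_ne_one this

theorem tm_rel {X : Scheme.{u}} {M T : X.Modules} {U : X.Opens} {c₁ d₁ c₂ d₂ : Γ(X, U)} {m m' : Γ(M, U)}
    {t t' : Γ(T, U)} (h₁ : c₁ • m = d₁ • m') (h₂ : c₂ • t = d₂ • t') :
    (c₁ * c₂) • TMul.tm m t = (d₁ * d₂) • TMul.tm m' t' := by
  rw [mul_smul, mul_smul, ← TMul.tm_smul, ← TMul.smul_tm, h₁, h₂, TMul.smul_tm, TMul.tm_smul]

theorem isIso_homOf {X : Scheme.{u}} {L : X.Modules} {e : Γ(L, ⊤)} (he : IsGen e) : IsIso (TMul.homOf e) := by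
  rw [Scheme.Modules.Hom.isIso_iff_isIso_app]
  intro V
  rw [ConcreteCategory.isIso_iff_bijective]
  have h : ⇑((TMul.homOf e).app V) = fun c : Γ(X, V) => c • res L (le_top : V ≤ ⊤) e := funext fun c => by
    refine (TMul.app_eq_smul (TMul.homOf e) c).trans ?_
    rw [TMul.val_homOf]
  rw [h]
  exact he V le_top

/-- An invertible module tensored with the right twist is trivial. -/
theorem exists_trivial (hn : 1 ≤ n) {M : (P n k).Modules} (hM : PicF.IsInvertible M) :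
    ∃ d : ℤ, Nonempty (CohB1.tensorMod M (Twist.twist (CohB1.polyGrading n k) d) ≅
      Coh.structureModule (P n k)) := by
  haveI := isIntegral (k := k) (n := n)
  choose g hg using fun i => exists_gen_ch hM i
  choose! g' p q hg' hrel using fun (i : Fin (n + 1)) (hi : i ≠ 0) => exists_rel (hg 0) hi (hg i)
  let l : Fin (n + 1) := ⟨1, by omega⟩
  have hl : l ≠ 0 := by simp [l, Fin.ext_iff]
  let a := p l
  let b := q l
  let T := Twist.twist (CohB1.polyGrading n k) ((a : ℤ) - b)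
  let L := CohB1.tensorMod M T
  let e₀ : Γ(L, ch 0) := TMul.tm (g 0) (tgen a b 0)
  let e : ∀ i, Γ(L, ch i) := fun i => TMul.tm (g' i) (tgen a b i)
  have hgen : ∀ i, i ≠ 0 → IsGen (e i) := fun i hi => TMul.isGen_tm (hg' i hi) (isGen_tgen a b i)
  have hkey : ∀ i, i ≠ 0 →
      zr (k := k) i ^ (p i + b) • res L (inf_le_right : ch i ⊓ ch 0 ≤ ch 0) e₀ =
        zr (k := k) i ^ (q i + a) • res L (inf_le_left : ch i ⊓ ch 0 ≤ ch i) (e i) := fun i hi => by
    have h1 := hrel i hi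
    have h2 := tgen_rel (k := k) a b i (inf_le_right : ch i ⊓ ch 0 ≤ ch 0) (inf_le_left : ch i ⊓ ch 0 ≤ ch i)
    show _ • res (CohB1.tensorMod M T) _ (TMul.tm (g 0) (tgen a b 0)) =
      _ • res (CohB1.tensorMod M T) _ (TMul.tm (g' i) (tgen a b i))
    rw [TMul.res_tm, TMul.res_tm, pow_add, pow_add]
    exact tm_rel h1 h2
  have hl2 : res L (inf_le_right : ch l ⊓ ch 0 ≤ ch 0) e₀ = res L (inf_le_left : ch l ⊓ ch 0 ≤ ch l) (e l) := by
    refine cancel_unit ((isUnit_z l (inf_le_left : ch l ⊓ ch 0 ≤ ch l) inf_le_right).pow (p l + b)) ?_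
    rw [hkey l hl, show q l + a = p l + b from add_comm _ _]
  have hall : ∀ i, i ≠ 0 →
      res L (inf_le_right : ch i ⊓ ch 0 ≤ ch 0) e₀ = res L (inf_le_left : ch i ⊓ ch 0 ≤ ch i) (e i) := fun i hi => by
    have := exp_eq hi hl (hgen i hi) (hgen l hl) (hkey i hi) hl2
    refine cancel_unit ((isUnit_z i (inf_le_left : ch i ⊓ ch 0 ≤ ch i) inf_le_right).pow (p i + b)) ?_
    rw [hkey i hi, this]
  have hF : UfdExtend.RankOne ⊤ L := ⟨fun V => by
    have h : ∀ W : (P n k).Opens, W = V → ∀ hW : W ≤ V, Function.Bijective (res L hW) := by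
      rintro W rfl hW
      rw [show ⇑(res L hW) = id from funext fun x => res_self _ _ x]
      exact Function.bijective_id
    exact h _ (inf_top_eq V) _,
    fun x _ => by
      obtain ⟨i, hx⟩ := exists_mem_ch x
      exact ⟨ch i, _, hx, TMul.isGen_tm (hg i) (isGen_tgen a b i)⟩⟩
  obtain ⟨o, ho, -⟩ := exists_mem_inter (k := k) 0 0
  obtain ⟨E, hE⟩ := UfdExtend.exists_glue hF (intOpen_top (k := k)) (V := ⊤) (O := ch 0) le_top le_top ho e₀
    fun y => by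
      obtain ⟨i, hy⟩ := exists_mem_ch y.1
      by_cases hi : i = 0
      · subst hi
        exact ⟨ch 0, e₀, hy, le_top, TMul.isGen_tm (hg 0) (isGen_tgen a b 0), rfl⟩
      · exact ⟨ch i, e i, hy, le_top, hgen i hi, (hall i hi).symm⟩
  haveI := isIso_homOf hE
  exact ⟨(a : ℤ) - b, ⟨(asIso (TMul.homOf E)).symm⟩⟩

theorem exists_iso (hn : 1 ≤ n) (M : (CohB1.ProjSpace n k).Modules) (hM : PicF.IsInvertible M) :
    ∃ d : ℤ, Nonempty (M ≅ Twist.twistProjSpace n k d) := by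
  obtain ⟨d, ⟨e⟩⟩ := exists_trivial hn hM
  have hcov : ∀ x : ProjectiveSpectrum (CohB1.polyGrading n k),
      ∃ f ∈ CohB1.polyGrading n k 1, f ∉ x.asHomogeneousIdeal := fun x =>
    let ⟨i, hi⟩ := CohFinite.cov_X n k x; ⟨_, X_mem i.down, hi⟩
  obtain ⟨t⟩ := GrT.nonempty_twist_tensor_iso (CohB1.polyGrading n k) (a := -d) (b := d) (c := 0)
    (by simpa using GrT.hasFracGens_of_cover hcov d) (by ring)
  obtain ⟨t₀⟩ := GrT.nonempty_twist_zero_iso (𝒜 := CohB1.polyGrading n k)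
  exact ⟨-d, ⟨(SecTwist.unitorR M).symm ≪≫ PicGrp.tensorModIso (Iso.refl M) (t ≪≫ t₀).symm ≪≫
    (TMul.assocIso _ _ _).symm ≪≫ PicGrp.tensorModIso e (Iso.refl _) ≪≫ TMul.leftUnitIso _⟩⟩

theorem exists_iso_any (M : (CohB1.ProjSpace n k).Modules) (hM : PicF.IsInvertible M) :
    ∃ d : ℤ, Nonempty (M ≅ Twist.twistProjSpace n k d) := by
  rcases Nat.eq_zero_or_pos n with rfl | hn
  · obtain ⟨g, hg⟩ := exists_gen_ch hM (0 : Fin 1)
    have htop : (⊤ : (P 0 k).Opens) ≤ ch 0 := fun y _ => by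
      obtain ⟨i, hi⟩ := exists_mem_ch y
      rwa [show i = 0 from Fin.ext (by omega)] at hi
    haveI := isIso_homOf (hg.res htop)
    obtain ⟨t₀⟩ := GrT.nonempty_twist_zero_iso (𝒜 := CohB1.polyGrading 0 k)
    exact ⟨0, ⟨(asIso (TMul.homOf (res M htop g))).symm ≪≫ t₀.symm⟩⟩
  · exact exists_iso hn M hM

theorem existsUnique_iso {K : Type u} [Field K] (hn : 1 ≤ n) (M : (CohB1.ProjSpace n K).Modules) (hM : PicF.IsInvertible M) :
    ∃! d : ℤ, Nonempty (M ≅ Twist.twistProjSpace n K d) := by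
  obtain ⟨d, ⟨e⟩⟩ := exists_trivial hn hM
  obtain ⟨f₁⟩ := Horrocks.tw_tw (k := K) (d := n) M d (-d) 0 (by ring)
  obtain ⟨f₂⟩ := Horrocks.tw_zero (k := K) (d := n) M
  obtain ⟨f₃⟩ := Horrocks.tw_iso (k := K) (d := n) (B := Coh.structureModule (CohB1.ProjSpace n K)) e (-d)
  let E : M ≅ Horrocks.Om K n (-d) := f₂.symm ≪≫ f₁.symm ≪≫ f₃ ≪≫ TMul.leftUnitIso _
  refine ⟨-d, ⟨E⟩, fun d' ⟨E'⟩ => ?_⟩
  have key : ∀ a b : ℤ, (Horrocks.Om K n a ≅ Horrocks.Om K n b) → b ≤ a := fun a b i => by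
    by_contra hab
    haveI := isIntegral (k := K) (n := n)
    obtain ⟨i'⟩ := Horrocks.tw_iso i (-b)
    obtain ⟨t₁⟩ := RegCx.twist_twist (k := K) (n := n) b (-b) 0 (by ring)
    obtain ⟨t₀⟩ := Horrocks.Om_zero (k := K) (d := n)
    have h0 : Subsingleton (Coh.HH _ (Coh.structureModule (CohB1.ProjSpace n K)) 0) :=
      CohQC.hh_subsingleton_of_iso (i' ≪≫ t₁ ≪≫ t₀) 0
        (Horrocks.hh_tw_Om a (-b) 0 (by omega) (by omega))
    have hs := (Horrocks.subsingleton_gamma_iff (Coh.structureModule (CohB1.ProjSpace n K))).2 h0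
    haveI : Nonempty (⊤ : (CohB1.ProjSpace n K).Opens) := ⟨⟨genericPoint (P n K), trivial⟩⟩
    exact zero_ne_one (α := Γ(CohB1.ProjSpace n K, ⊤))
      (@Subsingleton.elim _ hs (0 : Γ(CohB1.ProjSpace n K, ⊤)) (1 : Γ(CohB1.ProjSpace n K, ⊤)))
  exact le_antisymm (key _ _ (E.symm ≪≫ E')) (key _ _ (E'.symm ≪≫ E))

end Groth.Agent.PicPn
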