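import Groth.Agent.CohFinite.ProjSpace
import Groth.Agent.ProjMor.Morph
import Groth.Agent.ProjMor.ProjSpaceBase
import Groth.Agent.GrT.TwistTensor
import Groth.Agent.GrT.GammaFinite
import Groth.Agent.UfdExtend.Trivial
import Mathlib.RingTheory.Localization.Away.Basic

/-!
The standard charts of projective space: polynomial rings, units on overlaps, evaluation at the coordinate
hyperplane.
-/

set_option autoImplicit false
set_option backward.isDefEq.respectTransparency false
set_option linter.style.haveILetI false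

universe u

open CategoryTheory AlgebraicGeometry TopologicalSpace Opposite
open Groth.Agent.QC (res resO resO_resO)

noncomputable section

namespace Groth.Agent.PicPn

variable {k : Type u} [CommRing k] [IsDomain k] [UniqueFactorizationMonoid k] {n : ℕ}

/-- `P^n`, as a `Proj`. -/
abbrev P (n : ℕ) (k : Type u) [CommRing k] : Scheme.{u} := Proj (CohB1.polyGrading n k)

lemma X_mem (i : Fin (n + 1)) : (MvPolynomial.X i : MvPolynomial (Fin (n + 1)) k) ∈ CohB1.polyGrading n k 1 :=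
  MvPolynomial.isHomogeneous_X k i

/-- The chart `x_i ≠ 0`. -/
abbrev ch (i : Fin (n + 1)) : (P n k).Opens := Proj.basicOpen (CohB1.polyGrading n k) (MvPolynomial.X i)

/-- `x_j / x_i` on the chart `i`. -/
abbrev z (i j : Fin (n + 1)) : Γ(P n k, ch i) := GrT.deh (CohB1.polyGrading n k) (X_mem i) (MvPolynomial.X j)

theorem exists_chart (i : Fin (n + 1)) :
    ∃ e : Γ(P n k, ch i) ≃+* MvPolynomial {j : Fin (n + 1) // j ≠ i} k,
      (∀ (j : Fin (n + 1)) (h : j ≠ i), e (z i j) = MvPolynomial.X ⟨j, h⟩) ∧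
      ∀ c, e (GrT.deh _ (X_mem i) (MvPolynomial.C c)) = MvPolynomial.C c := by
  let φ : MvPolynomial (Fin (n + 1)) k →+* MvPolynomial {j : Fin (n + 1) // j ≠ i} k :=
    MvPolynomial.eval₂Hom MvPolynomial.C (fun j => if h : j = i then 1 else MvPolynomial.X ⟨j, h⟩)
  have hφ : φ (MvPolynomial.X i) = 1 := by simp [φ]
  let ψ : MvPolynomial {j : Fin (n + 1) // j ≠ i} k →+* Γ(P n k, ch i) :=
    MvPolynomial.eval₂Hom ((GrT.deh _ (X_mem i)).comp MvPolynomial.C) (fun j => z i j.1)
  have hψ : ψ.comp φ = GrT.deh _ (X_mem i) := by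
    refine MvPolynomial.ringHom_ext (fun c => ?_) (fun j => ?_)
    · simp [φ, ψ]
    · by_cases h : j = i
      · subst h
        rw [RingHom.comp_apply, hφ, map_one, GrT.deh_self]
      · simp [φ, ψ, h, z]
  refine ⟨RingEquiv.ofBijective (ProjMor.chartHom (X_mem i) φ hφ) ⟨fun a b hab => ?_, fun p => ?_⟩, fun j h => ?_,
    fun c => ?_⟩
  · obtain ⟨a, rfl⟩ := ProjMor.exists_deh_eq (X_mem i) a
    obtain ⟨b, rfl⟩ := ProjMor.exists_deh_eq (X_mem i) b
    rw [ProjMor.chartHom_deh, ProjMor.chartHom_deh] at hab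
    rw [← hψ, RingHom.comp_apply, RingHom.comp_apply, hab]
  · refine ⟨ψ p, ?_⟩
    induction p using MvPolynomial.induction_on with
    | C c => simp [φ, ψ, ProjMor.chartHom_deh]
    | add p q hp hq => rw [map_add, map_add, hp, hq]
    | mul_X p j hp =>
      rw [map_mul, map_mul, hp]
      simp [φ, ψ, z, ProjMor.chartHom_deh, j.2]
  · rw [RingEquiv.ofBijective_apply, ProjMor.chartHom_deh]
    simp [φ, h]
  · rw [RingEquiv.ofBijective_apply, ProjMor.chartHom_deh]
    simp [φ]

theorem prime_z (i j : Fin (n + 1)) (h : j ≠ i) : Prime (z (k := k) i j) := by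
  obtain ⟨e, he, -⟩ := exists_chart (k := k) i
  rw [← MulEquiv.prime_iff e.toMulEquiv]
  show Prime (e (z i j))
  rw [he j h]
  exact MvPolynomial.X_prime

theorem ufd_chart (i : Fin (n + 1)) : UniqueFactorizationMonoid Γ(P n k, ch i) := by
  obtain ⟨e, -⟩ := exists_chart (k := k) i
  exact MulEquiv.uniqueFactorizationMonoid e.symm.toMulEquiv inferInstance

theorem isAffineOpen_ch (i : Fin (n + 1)) : IsAffineOpen (ch (k := k) i) :=
  ProjLib.isAffineOpen_basicOpen _ (X_mem i) one_pos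

theorem ch_inf (i j : Fin (n + 1)) : ch (k := k) i ⊓ ch j = (P n k).basicOpen (z i j) := by
  have h1 : z (k := k) i j = _ := GrT.deh_of_mem _ (X_mem i) (X_mem j)
  rw [h1, GrT.basicOpen_away _ (X_mem i) one_pos one_pos, Proj.basicOpen_mul]

theorem exists_mem_ch (y : P n k) : ∃ i, y ∈ ch (k := k) i := by
  obtain ⟨⟨i⟩, hi⟩ := CohFinite.cov_X n k y
  exact ⟨i, (ProjectiveSpectrum.mem_basicOpen _ _ y).mpr hi⟩

/-- A ring map to `k` sending `z_i0` to zero, defined on `ch i ⊓ ch l`. -/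
theorem exists_char (i l : Fin (n + 1)) (hi : i ≠ 0) (hl : l ≠ 0) :
    ∃ χ : Γ(P n k, ch i ⊓ ch l) →+* k, χ (resO _ inf_le_left (z i 0)) = 0 := by
  suffices h : ∀ V : (P n k).Opens, V = (P n k).basicOpen (z i l) → ∀ hV : V ≤ ch i,
      ∃ χ : Γ(P n k, V) →+* k, χ (resO _ hV (z i 0)) = 0 from h _ (ch_inf i l) inf_le_left
  rintro V rfl hV
  let φ : MvPolynomial (Fin (n + 1)) k →+* k :=
    MvPolynomial.eval₂Hom (RingHom.id k) (fun j => if j = 0 then 0 else 1)
  have hφ : φ (MvPolynomial.X i) = 1 := by simp [φ, hi]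
  letI : Algebra Γ(P n k, ch i) Γ(P n k, (P n k).basicOpen (z i l)) := (resO (P n k) hV).toAlgebra
  haveI : IsLocalization.Away (z i l) Γ(P n k, (P n k).basicOpen (z i l)) :=
    (isAffineOpen_ch i).isLocalization_basicOpen _
  have hu : IsUnit (ProjMor.chartHom (X_mem i) φ hφ (z i l)) := by
    rw [ProjMor.chartHom_deh]
    simp [φ, hl]
  refine ⟨IsLocalization.Away.lift (z i l) hu, ?_⟩
  refine (IsLocalization.Away.lift_eq (z i l) hu (z i 0)).trans ?_
  rw [ProjMor.chartHom_deh]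
  simp [φ]

/-- A unit on an overlap is a power of the coordinate, up to a unit of the chart. -/
theorem exists_unit_eq (i : Fin (n + 1)) (hi : i ≠ 0) {V : (P n k).Opens} (hV : V = (P n k).basicOpen (z i 0))
    (h : V ≤ ch i) (u : Γ(P n k, V)) (hu : IsUnit u) :
    ∃ (c : Γ(P n k, ch i)) (p q : ℕ), IsUnit c ∧
      resO _ h (z i 0) ^ p * u = resO _ h c * resO _ h (z i 0) ^ q := by
  subst hV
  letI : Algebra Γ(P n k, ch i) Γ(P n k, (P n k).basicOpen (z i 0)) := (resO (P n k) h).toAlgebra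
  haveI : IsLocalization.Away (z i 0) Γ(P n k, (P n k).basicOpen (z i 0)) :=
    (isAffineOpen_ch i).isLocalization_basicOpen _
  haveI := ufd_chart (k := k) i
  obtain ⟨e, -⟩ := exists_chart (k := k) i
  haveI : IsDomain Γ(P n k, ch i) := e.toMulEquiv.isDomain _
  obtain ⟨v, hv⟩ := hu.exists_right_inv
  obtain ⟨p, a, ha⟩ := IsLocalization.Away.surj (z (k := k) i 0) u
  obtain ⟨s, b, hb⟩ := IsLocalization.Away.surj (z (k := k) i 0) v
  have hp := prime_z (k := k) i 0 hi.symm
  have hab : a * b = z i 0 ^ (p + s) := by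
    refine IsLocalization.injective (M := Submonoid.powers (z (k := k) i 0))
      Γ(P n k, (P n k).basicOpen (z i 0)) (powers_le_nonZeroDivisors_of_noZeroDivisors hp.ne_zero) ?_
    rw [map_mul, ← ha, ← hb, map_pow, pow_add]
    linear_combination (algebraMap Γ(P n k, ch i) Γ(P n k, (P n k).basicOpen (z i 0)) (z (k := k) i 0)) ^ p *
      (algebraMap Γ(P n k, ch i) Γ(P n k, (P n k).basicOpen (z i 0)) (z (k := k) i 0)) ^ s * hv
  obtain ⟨q, -, hq⟩ := (dvd_prime_pow hp _).1 (Dvd.intro b hab)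
  obtain ⟨c, hc⟩ := hq.symm
  refine ⟨c, p, q, c.isUnit, ?_⟩
  show algebraMap _ _ (z i 0) ^ p * u = algebraMap _ _ (c : Γ(P n k, ch i)) * algebraMap _ _ (z i 0) ^ q
  rw [mul_comm, ha, ← hc, map_mul, map_pow, mul_comm]

end Groth.Agent.PicPn
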